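import Groth.Agent.Lib.Serre.Basic
import Groth.Agent.Lib.RegLoc.Basic
import Groth.Agent.Lib.CMFree.Regular
import Mathlib.Algebra.Category.ModuleCat.InjectiveDimension
import Mathlib.RingTheory.Regular.IsSMulRegular
import Mathlib.RingTheory.Ideal.AssociatedPrime.Finiteness
import Mathlib.RingTheory.Regular.ProjectiveDimension
import Mathlib.RingTheory.LocalRing.ResidueField.Basic
import Mathlib.RingTheory.TensorProduct.Quotient
import Mathlib.RingTheory.Flat.FaithfullyFlat.Algebra

/-!
Serre's characterisation of regular local rings by finite global dimension, and its corollaries: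
localisations of regular local rings are regular and regularity descends along flat local maps.
-/

universe u

open CategoryTheory CategoryTheory.Abelian TensorProduct IsLocalRing

namespace GrothLib.Serre

lemma exists_mem_notMem_sq {R : Type u} [CommRing R] [IsLocalRing R] [IsNoetherianRing R]
    (h : maximalIdeal R ≠ ⊥) : ∃ x ∈ maximalIdeal R, x ∉ maximalIdeal R ^ 2 := by
  by_contra! hc
  refine h (Submodule.eq_bot_of_le_smul_of_le_jacobson_bot (maximalIdeal R) _
    (IsNoetherian.noetherian _) ?_ (maximalIdeal_le_jacobson _))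
  rw [smul_eq_mul, ← sq]
  exact hc

/-- Over a regular local ring of embedding dimension `d`, finite modules have `pd ≤ d`. -/
theorem pdLE_of_finite : ∀ (d : ℕ) (R : Type u) [CommRing R] [IsRegularLocalRing R],
    (maximalIdeal R).spanFinrank = d →
      ∀ (M : Type u) [AddCommGroup M] [Module R M] [Module.Finite R M], PdLE R M d := by
  intro d
  induction d with
  | zero =>
    intro R _ _ hd M _ _ _
    rw [Submodule.spanFinrank_eq_zero_iff_eq_bot (IsNoetherian.noetherian _)] at hd
    letI := (IsLocalRing.isField_iff_maximalIdeal_eq.mpr hd).toField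
    exact pdLE_zero_iff.mpr inferInstance
  | succ d ih =>
    intro R _ _ hd M _ _ _
    have := GrothLib.CMFree.isDomain_of_isRegularLocalRing R
    obtain ⟨x, hx, hx2⟩ := exists_mem_notMem_sq (R := R) fun h => by
      rw [h, Submodule.spanFinrank_bot] at hd
      omega
    obtain ⟨hreg, -, hrk⟩ := GrothLib.RegLoc.quotient_isRegularLocalRing hx hx2
    have hx0 : x ≠ 0 := fun e => hx2 (e ▸ Submodule.zero_mem _)
    have hxR : IsSMulRegular R x := (isRegular_iff_ne_zero.2 hx0).left.isSMulRegular
    obtain ⟨k, f, hf⟩ := Module.Finite.exists_fin' R M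
    rw [pdLE_succ_iff f hf d, pdLE_quotient_iff hx hxR d (fun a b hab => Subtype.ext (funext fun i =>
      hxR (congrFun (congrArg Subtype.val hab) i)))]
    exact ih _ (by rw [← GrothLib.RegLoc.map_maximalIdeal_quotient]; omega) _

/-- Injective dimension is detected on cyclic modules. -/
theorem hasInjectiveDimensionLT_of_cyclic {R : Type u} [CommRing R] : ∀ (n : ℕ) (Y : ModuleCat.{u} R),
    (∀ I : Ideal R, Subsingleton (Ext (ModuleCat.of R (R ⧸ I)) Y (n + 1))) →
      HasInjectiveDimensionLT Y (n + 1) := by
  intro n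
  induction n with
  | zero =>
    intro Y h
    rw [← injective_iff_hasInjectiveDimensionLT_one, ← Module.injective_iff_injective_object,
      ← Module.Baer.iff_injective]
    intro I g
    let S : ShortComplex (ModuleCat.{u} R) :=
      ShortComplex.mk (ModuleCat.ofHom (I.subtype : I →ₗ[R] R)) (ModuleCat.ofHom I.mkQ)
        (ModuleCat.hom_ext (LinearMap.ext fun z => (Submodule.Quotient.mk_eq_zero I).2 z.2))
    have hS : S.ShortExact :=
      { exact := (ShortComplex.moduleCat_exact_iff _).2 fun v hv =>
          ⟨⟨v, (Submodule.Quotient.mk_eq_zero I).1 hv⟩, rfl⟩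
        mono_f := (ModuleCat.mono_iff_injective _).2 Subtype.val_injective
        epi_g := (ModuleCat.epi_iff_surjective _).2 I.mkQ_surjective }
    obtain ⟨x₂, hx₂⟩ := Ext.contravariant_sequence_exact₁ hS Y
      (Ext.mk₀ (ModuleCat.ofHom g : S.X₁ ⟶ Y)) (n₁ := 1) rfl (@Subsingleton.elim _ (h I) _ _)
    obtain ⟨φ, rfl⟩ := (Ext.mk₀_bijective _ _).2 x₂
    rw [Ext.mk₀_comp_mk₀, (Ext.mk₀_bijective _ _).1.eq_iff] at hx₂
    exact ⟨φ.hom, fun z hz => congrArg (fun q => q.hom ⟨z, hz⟩) hx₂⟩
  | succ n ih =>
    intro Y h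
    obtain ⟨p⟩ := EnoughInjectives.presentation Y
    let S := ShortComplex.mk p.f (Limits.cokernel.π p.f) (Limits.cokernel.condition p.f)
    have hS : S.ShortExact := { exact := ShortComplex.exact_cokernel p.f }
    rw [← hS.hasInjectiveDimensionLT_X₃_iff n (inferInstanceAs (Injective p.J))]
    refine ih _ fun I => subsingleton_of_forall_eq 0 fun x => ?_
    obtain ⟨x₂, rfl⟩ := Ext.covariant_sequence_exact₃ (ModuleCat.of R (R ⧸ I)) hS x (n₁ := n + 1 + 1) rfl
      (@Subsingleton.elim _ (h I) _ _)
    rw [show x₂ = 0 from Ext.eq_zero_of_injective x₂, Ext.zero_comp]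

/-- **Serre**: a regular local ring of dimension `d` has global dimension at most `d`. -/
theorem pdLE_of_isRegularLocalRing (R : Type u) [CommRing R] [IsRegularLocalRing R] (d : ℕ)
    (hd : ringKrullDim R = d) (M : Type u) [AddCommGroup M] [Module R M] : PdLE R M d := by
  have hd' : (maximalIdeal R).spanFinrank = d := by
    rw [← IsRegularLocalRing.spanFinrank_maximalIdeal] at hd
    exact_mod_cast hd
  refine hasProjectiveDimensionLT_of_enoughInjectives _ _ fun Y => ?_
  have := hasInjectiveDimensionLT_of_cyclic d Y fun I =>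
    have := pdLE_of_finite d R hd' (R ⧸ I)
    HasProjectiveDimensionLT.subsingleton (ModuleCat.of R (R ⧸ I)) (d + 1) (d + 1) le_rfl Y
  exact HasInjectiveDimensionLT.subsingleton Y (d + 1) (d + 1) le_rfl _

lemma exists_minimal_surjection (R : Type u) [CommRing R] [IsLocalRing R] (M : Type u)
    [AddCommGroup M] [Module R M] [Module.Finite R M] :
    ∃ (k : ℕ) (π : (Fin k → R) →ₗ[R] M), Function.Surjective π ∧
      ∀ c, π c = 0 → ∀ i, c i ∈ maximalIdeal R := by
  let b := Module.finBasis (ResidueField R) (ResidueField R ⊗[R] M)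
  choose v hv using fun i => TensorProduct.mk_surjective R M (ResidueField R)
    Ideal.Quotient.mk_surjective (b i)
  refine ⟨_, Fintype.linearCombination R v, ?_, fun c hc i => ?_⟩
  · rw [← LinearMap.range_eq_top, Fintype.range_linearCombination]
    exact IsLocalRing.span_eq_top_of_tmul_eq_basis v b hv
  rw [Fintype.linearCombination_apply] at hc
  have h0 := congrArg (TensorProduct.mk R (ResidueField R) M 1) hc
  rw [map_sum, map_zero] at h0
  simp only [map_smul, hv] at h0
  have h1 := Fintype.linearIndependent_iff.mp b.linearIndependent (fun i => residue R (c i)) (by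
    refine Eq.trans (Finset.sum_congr rfl fun j _ => ?_) h0
    exact algebraMap_smul (ResidueField R) (c j) (b j)) i
  exact (residue_eq_zero_iff _).mp h1

/-- Over a local ring of depth zero, finite modules of finite projective dimension are free. -/
theorem free_of_pdLE_of_socle {R : Type u} [CommRing R] [IsLocalRing R] [IsNoetherianRing R] {s : R}
    (hs : s ≠ 0) (hm : ∀ a ∈ maximalIdeal R, s * a = 0) :
    ∀ (n : ℕ) {M : Type u} [AddCommGroup M] [Module R M] [Module.Finite R M],
      PdLE R M n → Module.Free R M := by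
  intro n
  induction n with
  | zero =>
    intro M _ _ _ h
    rw [pdLE_zero_iff] at h
    exact Module.free_of_flat_of_isLocalRing
  | succ n ih =>
    intro M _ _ _ h
    obtain ⟨k, π, hπ, hmin⟩ := exists_minimal_surjection R M
    have hfree : Module.Free R (LinearMap.ker π) := ih ((pdLE_succ_iff π hπ n).mp h)
    have hzero : ∀ y : LinearMap.ker π, s • y = 0 := fun y =>
      Subtype.ext (funext fun i => hm _ (hmin y.1 y.2 i))
    have hinj : Function.Injective π := by
      rw [← LinearMap.ker_eq_bot, Submodule.eq_bot_iff]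
      intro y hy
      by_contra hy0
      let b := Module.Free.chooseBasis R (LinearMap.ker π)
      rcases isEmpty_or_nonempty (Module.Free.ChooseBasisIndex R (LinearMap.ker π)) with he | ⟨⟨i⟩⟩
      · have : Subsingleton (LinearMap.ker π) := b.repr.toEquiv.subsingleton
        exact hy0 (congrArg Subtype.val (Subsingleton.elim (⟨y, hy⟩ : LinearMap.ker π) 0))
      · have h1 := congrArg b.repr (hzero (b i))
        rw [map_smul, map_zero, b.repr_self, Finsupp.smul_single, smul_eq_mul, mul_one] at h1
        exact hs (Finsupp.single_eq_zero.mp h1)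
    exact Module.Free.of_equiv (LinearEquiv.ofBijective π ⟨hinj, hπ⟩)

/-- **Serre**: finite projective dimension of the residue field implies regularity. -/
theorem isRegularLocalRing_of_pdLE_aux : ∀ (r : ℕ) (R : Type u) [CommRing R] [IsLocalRing R]
    [IsNoetherianRing R], (maximalIdeal R).spanFinrank = r →
      ∀ n, PdLE R (R ⧸ maximalIdeal R) n → IsRegularLocalRing R := by
  intro r
  induction r using Nat.strong_induction_on with
  | _ r ih =>
    intro R _ _ _ hr n hn
    by_cases hbot : maximalIdeal R = ⊥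
    · refine IsRegularLocalRing.of_spanFinrank_maximalIdeal_le R ?_
      rw [hbot, Submodule.spanFinrank_bot]
      exact_mod_cast ringKrullDim_nonneg_of_nontrivial
    classical
    by_cases hdepth : ∃ s : R, s ≠ 0 ∧ ∀ a ∈ maximalIdeal R, s * a = 0
    · obtain ⟨s, hs, hm⟩ := hdepth
      have := free_of_pdLE_of_socle hs hm n hn
      refine absurd ((Submodule.eq_bot_iff _).mpr fun a ha => ?_) hbot
      have : Nontrivial (R ⧸ maximalIdeal R) :=
        Ideal.Quotient.nontrivial_iff.mpr (maximalIdeal.isMaximal R).ne_top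
      have h0 : a ∈ Module.annihilator R (R ⧸ maximalIdeal R) := by
        rwa [Ideal.annihilator_quotient]
      rwa [Module.annihilator_eq_bot.mpr inferInstance, Submodule.mem_bot] at h0
    -- a regular element outside `m²`
    obtain ⟨x, hx, hx2, hxreg⟩ : ∃ x ∈ maximalIdeal R, x ∉ maximalIdeal R ^ 2 ∧ IsSMulRegular R x := by
      by_contra hc
      push Not at hc
      have hfin := associatedPrimes.finite R R
      let s := insert (maximalIdeal R ^ 2) hfin.toFinset
      have hsub : (maximalIdeal R : Set R) ⊆ ⋃ P ∈ (↑s : Set (Ideal R)), (id P : Ideal R) := by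
        intro a ha
        rw [Set.mem_iUnion₂]
        by_cases ha2 : a ∈ maximalIdeal R ^ 2
        · exact ⟨_, Finset.mem_insert_self _ _, ha2⟩
        · have h1 : a ∈ {r : R | IsSMulRegular R r}ᶜ := hc a ha ha2
          rw [← biUnion_associatedPrimes_eq_compl_regular, Set.mem_iUnion₂] at h1
          obtain ⟨P, hP, haP⟩ := h1
          exact ⟨P, Finset.mem_insert_of_mem (hfin.mem_toFinset.mpr hP), haP⟩
      obtain ⟨P, hP, hle⟩ := (Ideal.subset_union_prime (maximalIdeal R ^ 2) (maximalIdeal R ^ 2)
        (fun P hP h1 _ => (hfin.mem_toFinset.mp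
          (Finset.mem_of_mem_insert_of_ne hP h1)).isPrime)).mp hsub
      rcases Finset.mem_insert.mp hP with rfl | hP
      · obtain ⟨y, hy, hy2⟩ := exists_mem_notMem_sq hbot
        exact hy2 (hle hy)
      have hP' := hfin.mem_toFinset.mp hP
      obtain ⟨hPp, s₀, hs₀⟩ := (isAssociatedPrime_iff_exists_injective_linearMap P R).mp hP'
      refine hdepth ⟨s₀ (Ideal.Quotient.mk P 1), fun h0 => ?_, fun a ha => ?_⟩
      · exact hPp.ne_top ((Ideal.eq_top_iff_one P).mpr (Ideal.Quotient.eq_zero_iff_mem.mp
          (hs₀ (h0.trans (map_zero s₀).symm))))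
      · rw [mul_comm, ← smul_eq_mul, ← map_smul, Algebra.smul_def, map_one, mul_one,
          show algebraMap R (R ⧸ P) a = 0 from Ideal.Quotient.eq_zero_iff_mem.mpr (hle ha), map_zero]
    let Rb := R ⧸ Ideal.span {x}
    haveI : IsLocalRing Rb :=
      GrothLib.RegLoc.isLocalRing_quotient ((Ideal.span_singleton_le_iff_mem _).2 hx)
    have hxmem : ∀ a ∈ maximalIdeal Rb, ∃ b ∈ maximalIdeal R, Ideal.Quotient.mk _ b = a := fun a ha => by
      rw [← GrothLib.RegLoc.map_maximalIdeal_quotient] at ha
      exact (Ideal.mem_map_iff_of_surjective _ Ideal.Quotient.mk_surjective).mp ha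
    -- `m` has finite projective dimension
    have hm : PdLE R (maximalIdeal R) n := by
      have h1 := (pdLE_succ_iff (maximalIdeal R).mkQ (Submodule.mkQ_surjective _) n).mp
        (pdLE_mono n.le_succ hn)
      exact (pdLE_congr (LinearEquiv.ofEq _ _ (Submodule.ker_mkQ _)) n).mp h1
    have hxm : IsSMulRegular (maximalIdeal R) x := fun a b h =>
      Subtype.ext (hxreg (congrArg Subtype.val h))
    have hmb := (pdLE_quotient_iff hx hxreg n hxm).mp hm
    -- the residue field is a retract of `m / x m`
    obtain ⟨ψ, hψ⟩ : ∃ ψ : (maximalIdeal R).Cotangent →ₗ[ResidueField R] ResidueField R,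
        ψ ((maximalIdeal R).toCotangent ⟨x, hx⟩) = 1 := by
      have hne : (maximalIdeal R).toCotangent ⟨x, hx⟩ ≠ 0 := fun h =>
        hx2 ((Ideal.toCotangent_eq_zero _ _).mp h)
      obtain ⟨ψ, hψ⟩ := (LinearMap.toSpanSingleton (ResidueField R) _
        ((maximalIdeal R).toCotangent ⟨x, hx⟩)).exists_leftInverse_of_injective
        (LinearMap.ker_eq_bot.mpr (smul_left_injective _ hne))
      exact ⟨ψ, by simpa using LinearMap.congr_fun hψ 1⟩
    let kb := Rb ⧸ maximalIdeal Rb
    let e : (R ⧸ maximalIdeal R) →ₗ[R] kb :=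
      (maximalIdeal R).liftQ ((Algebra.linearMap R kb)) fun a ha => by
        show algebraMap R kb a = 0
        refine Ideal.Quotient.eq_zero_iff_mem.mpr ?_
        rw [← GrothLib.RegLoc.map_maximalIdeal_quotient]
        exact Ideal.mem_map_of_mem _ ha
    let φ : maximalIdeal R →ₗ[R] kb :=
      e ∘ₗ (ψ.restrictScalars R) ∘ₗ (maximalIdeal R).toCotangent
    let p : Rb ⊗[R] maximalIdeal R →ₗ[Rb] kb := φ.liftBaseChange Rb
    let i : kb →ₗ[Rb] Rb ⊗[R] maximalIdeal R :=
      (maximalIdeal Rb).liftQ (LinearMap.toSpanSingleton Rb _ (1 ⊗ₜ ⟨x, hx⟩)) fun a ha => by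
        obtain ⟨b, hb, rfl⟩ := hxmem a ha
        rw [LinearMap.mem_ker, LinearMap.toSpanSingleton_apply, TensorProduct.smul_tmul', smul_eq_mul,
          mul_one, show (Ideal.Quotient.mk (Ideal.span {x}) b) = b • (1 : Rb) by
            rw [Algebra.smul_def, mul_one]; rfl, TensorProduct.smul_tmul,
          show b • (⟨x, hx⟩ : maximalIdeal R) = x • ⟨b, hb⟩ from Subtype.ext (mul_comm b x),
          ← TensorProduct.smul_tmul]
        have h0 : x • (1 : Rb) = 0 := by
          rw [Algebra.smul_def, mul_one]
          exact Ideal.Quotient.eq_zero_iff_mem.mpr (Ideal.mem_span_singleton_self x)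
        rw [h0, zero_tmul]
    have hpi : p ∘ₗ i = LinearMap.id := by
      apply Submodule.linearMap_qext
      apply LinearMap.ext_ring
      show p ((1 : Rb) • ((1 : Rb) ⊗ₜ[R] (⟨x, hx⟩ : maximalIdeal R))) = (Submodule.Quotient.mk 1 : kb)
      rw [one_smul]
      show φ.liftBaseChange Rb _ = _
      rw [LinearMap.liftBaseChange_tmul, one_smul]
      show e (ψ ((maximalIdeal R).toCotangent ⟨x, hx⟩)) = _
      rw [hψ]
      exact map_one (algebraMap R kb)
    have hlt : (maximalIdeal Rb).spanFinrank + 1 ≤ r := by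
      have h2 := GrothLib.CMFree.spanFinrank_map_lt hx hx2
      rw [GrothLib.RegLoc.map_maximalIdeal_quotient, hr] at h2
      exact h2
    have := ih (maximalIdeal Rb).spanFinrank (by omega) Rb rfl n (pdLE_of_retract i p hpi hmb)
    exact GrothLib.RegLoc.isRegularLocalRing_of_quotient hx
      (mem_nonZeroDivisors_iff_right.mpr fun a ha =>
        hxreg (show x • a = x • (0 : R) by rw [smul_zero, smul_eq_mul, mul_comm, ha]))

theorem isRegularLocalRing_of_pdLE (R : Type u) [CommRing R] [IsLocalRing R] [IsNoetherianRing R]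
    {n : ℕ} (h : PdLE R (ResidueField R) n) : IsRegularLocalRing R :=
  isRegularLocalRing_of_pdLE_aux _ R rfl n h

/-- Localisations of regular local rings are regular. -/
theorem isRegularLocalRing_localization (R : Type u) [CommRing R] [IsRegularLocalRing R]
    (p : Ideal R) [p.IsPrime] (Rp : Type u) [CommRing Rp] [Algebra R Rp]
    [IsLocalization.AtPrime Rp p] : IsRegularLocalRing Rp := by
  have : IsLocalRing Rp := IsLocalization.AtPrime.isLocalRing Rp p
  have : IsNoetherianRing Rp := IsLocalization.isNoetherianRing p.primeCompl Rp inferInstance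
  have : Module.Flat R Rp := IsLocalization.flat Rp p.primeCompl
  obtain ⟨d, hd, -⟩ := GrothLib.RegLoc.exists_dim_eq (R := R)
  have h := pdLE_baseChange Rp d (pdLE_of_isRegularLocalRing R d hd (R ⧸ p))
  let e : (Rp ⊗[R] (R ⧸ p)) ≃ₗ[Rp] (Rp ⧸ maximalIdeal Rp) :=
    (Algebra.TensorProduct.quotIdealMapEquivTensorQuot Rp p).symm.toLinearEquiv ≪≫ₗ
      Submodule.quotEquivOfEq _ _ (IsLocalization.AtPrime.map_eq_maximalIdeal p Rp)
  exact isRegularLocalRing_of_pdLE Rp ((pdLE_congr e d).mp h)

/-- Regularity descends along flat local homomorphisms. -/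
theorem isRegularLocalRing_of_flat (R S : Type u) [CommRing R] [IsLocalRing R] [IsNoetherianRing R]
    [CommRing S] [IsRegularLocalRing S] [Algebra R S] [IsLocalHom (algebraMap R S)]
    [Module.Flat R S] : IsRegularLocalRing R := by
  have : Module.FaithfullyFlat R S := Module.FaithfullyFlat.of_flat_of_isLocalHom
  obtain ⟨d, hd, -⟩ := GrothLib.RegLoc.exists_dim_eq (R := S)
  exact isRegularLocalRing_of_pdLE R
    (pdLE_of_faithfullyFlat S d (pdLE_of_isRegularLocalRing S d hd (S ⊗[R] ResidueField R)))

end GrothLib.Serre
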