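import Groth.Agent.Lib.Serre.Regular
import Groth.Agent.Lib.Hensel.Noetherian
import Mathlib.RingTheory.RegularLocalRing.Defs
import Mathlib.RingTheory.Localization.LocalizationLocalization
import Mathlib.RingTheory.Flat.FaithfullyFlat.Algebra

/-! Regular rings: regularity at maximal ideals suffices; descent along faithfully flat maps. -/

universe u

open IsLocalRing

namespace GrothLib.Serre

/-- Regularity at the maximal ideals implies regularity. -/
theorem isRegularRing_of_forall_isMaximal (R : Type u) [CommRing R] [IsNoetherianRing R]
    (h : ∀ m : Ideal R, ∀ [m.IsMaximal], IsRegularLocalRing (Localization.AtPrime m)) :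
    IsRegularRing R := by
  rw [isRegularRing_iff]
  intro p _
  obtain ⟨m, hm, hpm⟩ := Ideal.exists_le_maximal p (Ideal.IsPrime.ne_top inferInstance)
  have := h m
  let P : Ideal (Localization.AtPrime m) := p.map (algebraMap R (Localization.AtPrime m))
  have hdisj : Disjoint (m.primeCompl : Set R) p :=
    Set.disjoint_left.mpr fun a ha ha' => ha (hpm ha')
  have hP : P.IsPrime := IsLocalization.isPrime_of_isPrime_disjoint m.primeCompl _ p inferInstance hdisj
  have hc : P.comap (algebraMap R _) = p :=
    IsLocalization.comap_map_of_isPrime_disjoint m.primeCompl _ inferInstance hdisj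
  have hreg := isRegularLocalRing_localization (Localization.AtPrime m) P (Localization.AtPrime P)
  have : IsLocalization.AtPrime (Localization.AtPrime P) p := by
    have := IsLocalization.isLocalization_isLocalization_atPrime_isLocalization m.primeCompl
      (Localization.AtPrime P) P
    simpa [hc] using this
  exact IsRegularLocalRing.of_ringEquiv
    (IsLocalization.algEquiv p.primeCompl (Localization.AtPrime P) (Localization.AtPrime p)).toRingEquiv

/-- A regular local ring is a regular ring. -/
theorem isRegularRing_of_isRegularLocalRing (R : Type u) [CommRing R] [IsRegularLocalRing R] :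
    IsRegularRing R := by
  rw [isRegularRing_iff]
  intro p _
  exact isRegularLocalRing_localization R p _

/-- Regularity descends along faithfully flat maps. -/
theorem isRegularRing_of_faithfullyFlat (R S : Type u) [CommRing R] [CommRing S] [Algebra R S]
    [Module.FaithfullyFlat R S] [IsRegularRing S] : IsRegularRing R := by
  have : IsNoetherianRing R := GrothLib.Hensel.isNoetherianRing_of_faithfullyFlat R S
  rw [isRegularRing_iff]
  intro p _
  obtain ⟨q, hq⟩ := PrimeSpectrum.comap_surjective_of_faithfullyFlat (A := R) (B := S) ⟨p, inferInstance⟩
  have hq' : p = q.asIdeal.comap (algebraMap R S) := (congrArg PrimeSpectrum.asIdeal hq).symm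
  have : q.asIdeal.LiesOver p := ⟨hq'⟩
  let _ := Localization.AtPrime.algebraOfLiesOver p q.asIdeal
  exact isRegularLocalRing_of_flat (Localization.AtPrime p) (Localization.AtPrime q.asIdeal)

end GrothLib.Serre
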