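import Groth.Agent.Lib.Serre.Ring
import Groth.Agent.Lib.RegLoc.Criteria
import Groth.Agent.Lib.GrpSchField.SmoothRegular
import Mathlib.RingTheory.Ideal.KrullsHeightTheorem
import Mathlib.RingTheory.Smooth.StandardSmoothOfFree
import Mathlib.RingTheory.LocalRing.ResidueField.Fiber
import Mathlib.RingTheory.Flat.Localization

/-!
# Regularity along flat maps with regular fibres; smooth algebras over fields are regular
-/

universe u

open IsLocalRing TensorProduct

namespace GrothLib.Serre

/-- A flat local algebra over a regular local ring with regular closed fibre is regular. -/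
theorem isRegularLocalRing_of_flat_of_fibre (R S : Type u) [CommRing R] [CommRing S] [Algebra R S]
    [IsRegularLocalRing R] [IsLocalRing S] [IsNoetherianRing S] [IsLocalHom (algebraMap R S)]
    [Module.Flat R S]
    (h : IsRegularLocalRing (S ⧸ (maximalIdeal R).map (algebraMap R S))) :
    IsRegularLocalRing S := by
  classical
  set I := (maximalIdeal R).map (algebraMap R S) with hI
  apply IsRegularLocalRing.of_spanFinrank_maximalIdeal_le
  have h1 := GrothLib.RegLoc.spanFinrank_maximalIdeal_le_add I
  have h2 : I.spanFinrank ≤ (maximalIdeal R).spanFinrank :=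
    Ideal.spanFinrank_map_le_of_fg (algebraMap R S) (IsNoetherian.noetherian _)
  have : (maximalIdeal S).LiesOver (maximalIdeal R) :=
    ⟨((((local_hom_TFAE (algebraMap R S)).out 0 4 rfl rfl).mp inferInstance)).symm⟩
  have h3 := Ideal.height_eq_height_add_of_liesOver_of_hasGoingDown (maximalIdeal R) (maximalIdeal S)
  have hmax : (maximalIdeal S).map (Ideal.Quotient.mk I) = maximalIdeal (S ⧸ I) :=
    GrothLib.RegLoc.map_maximalIdeal_quotient I
  rw [hmax] at h3
  have h4 : ((maximalIdeal (S ⧸ I)).spanFinrank : ℕ∞) = (maximalIdeal (S ⧸ I)).height := by
    have := (isRegularLocalRing_iff (S ⧸ I)).1 h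
    rw [← maximalIdeal_height_eq_ringKrullDim] at this
    exact_mod_cast this
  have h5 : ((maximalIdeal R).spanFinrank : ℕ∞) = (maximalIdeal R).height := by
    have := (isRegularLocalRing_iff R).1 inferInstance
    rw [← maximalIdeal_height_eq_ringKrullDim] at this
    exact_mod_cast this
  rw [← maximalIdeal_height_eq_ringKrullDim, h3, ← h4, ← h5]
  exact_mod_cast h1.trans (by omega)

/-- A flat Noetherian algebra over a regular ring whose fibre rings are regular is regular. -/
theorem isRegularRing_of_flat_of_fibres (R S : Type u) [CommRing R] [CommRing S] [Algebra R S]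
    [IsRegularRing R] [IsNoetherianRing S] [Module.Flat R S]
    (h : ∀ (p : Ideal R) [p.IsPrime], IsRegularRing (p.Fiber S)) : IsRegularRing S := by
  rw [isRegularRing_iff]
  intro q _
  let p := q.under R
  have := h p
  let Q := PrimeSpectrum.primesOverOrderIsoFiber R S p ⟨q, inferInstance, ⟨rfl⟩⟩
  have hQ : Q.asIdeal.comap Algebra.TensorProduct.includeRight = q := by
    rw [← PrimeSpectrum.coe_primesOverOrderIsoFiber_symm_apply p Q, OrderIso.symm_apply_apply]
  suffices key : IsRegularLocalRing
      (Localization.AtPrime (Q.asIdeal.comap Algebra.TensorProduct.includeRight)) from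
    (fun (r : Ideal S) [r.IsPrime] (e : r = q) (h : IsRegularLocalRing (Localization.AtPrime r)) =>
      (by subst e; exact h : IsRegularLocalRing (Localization.AtPrime q))) _ hQ key
  have hover : (Q.asIdeal.comap Algebra.TensorProduct.includeRight : Ideal S).LiesOver p := by
    rw [hQ]; exact ⟨rfl⟩
  let _ := Localization.AtPrime.algebraOfLiesOver p
    (Q.asIdeal.comap Algebra.TensorProduct.includeRight : Ideal S)
  have e := (Ideal.Fiber.localizationAlgEquivQuotient p Q.asIdeal).toRingEquiv
  have : IsRegularLocalRing (Localization.AtPrime Q.asIdeal) :=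
    IsRegularRing.isRegularLocalRing_localization _
  have hm : (maximalIdeal (Localization.AtPrime p)).map
      (algebraMap (Localization.AtPrime p)
        (Localization.AtPrime (Q.asIdeal.comap Algebra.TensorProduct.includeRight))) =
      p.map (algebraMap R _) := by
    rw [← Localization.AtPrime.map_eq_maximalIdeal, Ideal.map_map, ← IsScalarTower.algebraMap_eq]
  refine isRegularLocalRing_of_flat_of_fibre (Localization.AtPrime p) _ ?_
  exact IsRegularLocalRing.of_ringEquiv (R := Localization.AtPrime Q.asIdeal) (e.trans (Ideal.quotEquivOfEq hm.symm))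

/-- An algebra that is étale over a polynomial ring over a field is a regular ring. -/
theorem isRegularRing_of_etale_mvPolynomial {k : Type u} [Field k] (n : ℕ) (A : Type u)
    [CommRing A] [Algebra (MvPolynomial (Fin n) k) A] [Algebra.Etale (MvPolynomial (Fin n) k) A] :
    IsRegularRing A := by
  have : IsNoetherianRing A := Algebra.FiniteType.isNoetherianRing (MvPolynomial (Fin n) k) A
  exact isRegularRing_of_forall_isMaximal A
    fun m _ => GrothLib.GrpSchField.isRegularLocalRing_of_etale_mvPolynomial (k := k) n m

/-- A standard smooth algebra over a field is a regular ring. -/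
theorem isRegularRing_of_isStandardSmooth (k A : Type u) [Field k] [CommRing A] [Algebra k A]
    [Algebra.IsStandardSmooth k A] : IsRegularRing A := by
  obtain ⟨n, g, -, hg⟩ := RingHom.IsStandardSmooth.exists_etale_mvPolynomial
    (f := algebraMap k A) (RingHom.isStandardSmooth_algebraMap.mpr ‹_›)
  algebraize [g]
  have : Algebra.Etale (MvPolynomial (Fin n) k) A := hg
  exact isRegularRing_of_etale_mvPolynomial (k := k) n A

/-- An algebra of finite type over a field is regular at its smooth points. -/
theorem isRegularLocalRing_of_isSmoothAt {k S : Type u} [Field k] [CommRing S] [Algebra k S]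
    [Algebra.FiniteType k S] (q : Ideal S) [q.IsPrime] [Algebra.IsSmoothAt k q] :
    IsRegularLocalRing (Localization.AtPrime q) := by
  have : Algebra.FinitePresentation k S := Algebra.FinitePresentation.of_finiteType.mp ‹_›
  obtain ⟨f, hf, hstd⟩ := Algebra.IsSmoothAt.exists_notMem_isStandardSmooth k q
  have := isRegularRing_of_isStandardSmooth k (Localization.Away f)
  set Q := q.map (algebraMap S (Localization.Away f)) with hQdef
  have hdisj : Disjoint (Submonoid.powers f : Set S) q := by
    rwa [Ideal.disjoint_powers_iff_notMem_of_isPrime]
  have : Q.IsPrime := IsLocalization.isPrime_of_isPrime_disjoint (.powers f) _ _ ‹_› hdisj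
  have hc : Q.comap (algebraMap S _) = q :=
    IsLocalization.comap_map_of_isPrime_disjoint (.powers f) _ ‹_› hdisj
  have : IsLocalization.AtPrime (Localization.AtPrime Q) q := by
    have := IsLocalization.isLocalization_isLocalization_atPrime_isLocalization (Submonoid.powers f)
      (Localization.AtPrime Q) Q
    simpa [hc] using this
  exact IsRegularLocalRing.of_ringEquiv (R := Localization.AtPrime Q)
    (IsLocalization.algEquiv q.primeCompl (Localization.AtPrime Q) _).toRingEquiv

/-- Regularity ascends and descends along étale maps. -/
theorem isRegularLocalRing_localization_iff_of_etale (A B : Type u) [CommRing A] [CommRing B]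
    [Algebra A B] [Algebra.Etale A B] (p : Ideal A) [p.IsPrime] (q : Ideal B) [q.IsPrime]
    [q.LiesOver p] :
    IsRegularLocalRing (Localization.AtPrime p) ↔ IsRegularLocalRing (Localization.AtPrime q) := by
  let _ := Localization.AtPrime.algebraOfLiesOver p q
  have : IsLocalHom (algebraMap (Localization.AtPrime p) (Localization.AtPrime q)) := inferInstance
  constructor
  · intro hA
    have : Algebra.EssFiniteType B (Localization.AtPrime q) := .of_isLocalization _ q.primeCompl
    have : Algebra.EssFiniteType A (Localization.AtPrime q) := .comp _ B _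
    have : Algebra.EssFiniteType (Localization.AtPrime p) (Localization.AtPrime q) := .of_comp A _ _
    have : IsNoetherianRing (Localization.AtPrime q) :=
      Algebra.EssFiniteType.isNoetherianRing (Localization.AtPrime p) _
    have hu : Algebra.IsUnramifiedAt A q :=
      Algebra.FormallyUnramified.comp A B (Localization.AtPrime q)
    have hmap := ((Algebra.isUnramifiedAt_iff_map_eq A p q).mp hu).2
    refine isRegularLocalRing_of_flat_of_fibre (Localization.AtPrime p) _ ?_
    have hm : (maximalIdeal (Localization.AtPrime p)).map
        (algebraMap (Localization.AtPrime p) (Localization.AtPrime q)) =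
        maximalIdeal (Localization.AtPrime q) := by
      rw [← Localization.AtPrime.map_eq_maximalIdeal, Ideal.map_map,
        ← IsScalarTower.algebraMap_eq, hmap]
    rw [hm]
    let _ := Ideal.Quotient.field (maximalIdeal (Localization.AtPrime q))
    infer_instance
  · intro hB
    have : IsNoetherianRing (Localization.AtPrime p) :=
      have : Module.FaithfullyFlat (Localization.AtPrime p) (Localization.AtPrime q) :=
        Module.FaithfullyFlat.of_flat_of_isLocalHom
      GrothLib.Hensel.isNoetherianRing_of_faithfullyFlat _ (Localization.AtPrime q)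
    exact isRegularLocalRing_of_flat (Localization.AtPrime p) (Localization.AtPrime q)

end GrothLib.Serre
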