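import Groth.Agent.Lib.Flatness.Criterion
import Mathlib.Algebra.Category.ModuleCat.Projective
import Mathlib.Algebra.Category.ModuleCat.ProjectiveDimension
import Mathlib.CategoryTheory.Abelian.Projective.Dimension
import Mathlib.RingTheory.Flat.Stability
import Mathlib.RingTheory.Flat.FaithfullyFlat.Basic
import Mathlib.RingTheory.LocalRing.Module
import Mathlib.LinearAlgebra.TensorProduct.RightExactness
import Mathlib.RingTheory.TensorProduct.Finite

/-!
Projective dimension and base change: elementary dimension-shifting tools.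

Everywhere `HasProjectiveDimensionLT (ModuleCat.of R M) (n + 1)` means projective dimension at most `n`.
-/

universe u

open CategoryTheory TensorProduct

namespace GrothLib.Serre

/-- Projective dimension at most `n`. -/
abbrev PdLE (R : Type u) [CommRing R] (M : Type u) [AddCommGroup M] [Module R M] (n : ℕ) : Prop :=
  HasProjectiveDimensionLT (ModuleCat.of R M) (n + 1)

variable {R : Type u} [CommRing R] {M N F : Type u} [AddCommGroup M] [Module R M] [AddCommGroup N]
  [Module R N] [AddCommGroup F] [Module R F]

lemma pdLE_zero_iff : PdLE R M 0 ↔ Module.Projective R M := by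
  rw [PdLE, ← projective_iff_hasProjectiveDimensionLT_one]
  exact (IsProjective.iff_projective _).symm

lemma pdLE_succ_iff (f : F →ₗ[R] M) (hf : Function.Surjective f) [Module.Projective R F] (n : ℕ) :
    PdLE R M (n + 1) ↔ PdLE R (LinearMap.ker f) n := by
  let S : ShortComplex (ModuleCat.{u} R) :=
    ShortComplex.mk (ModuleCat.ofHom (LinearMap.ker f).subtype) (ModuleCat.ofHom f)
      (ModuleCat.hom_ext (LinearMap.ext fun z => LinearMap.mem_ker.1 z.2))
  have hS : S.ShortExact :=
    { exact := (ShortComplex.moduleCat_exact_iff _).2 fun v hv => ⟨⟨v, LinearMap.mem_ker.2 hv⟩, rfl⟩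
      mono_f := (ModuleCat.mono_iff_injective _).2 Subtype.val_injective
      epi_g := (ModuleCat.epi_iff_surjective _).2 hf }
  exact hS.hasProjectiveDimensionLT_X₃_iff n ((IsProjective.iff_projective _).1 ‹_›)

lemma pdLE_congr (e : M ≃ₗ[R] N) (n : ℕ) : PdLE R M n ↔ PdLE R N n :=
  ⟨fun _ => hasProjectiveDimensionLT_of_iso e.toModuleIso _,
    fun _ => hasProjectiveDimensionLT_of_iso e.toModuleIso.symm _⟩

lemma pdLE_mono {m n : ℕ} (h : m ≤ n) (hM : PdLE R M m) : PdLE R M n :=
  have := hM
  hasProjectiveDimensionLT_of_ge _ (m + 1) _ (by omega)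

lemma pdLE_of_retract (i : N →ₗ[R] M) (p : M →ₗ[R] N) (h : p ∘ₗ i = LinearMap.id) {n : ℕ}
    (hM : PdLE R M n) : PdLE R N n := by
  let r : Retract (ModuleCat.of R N) (ModuleCat.of R M) :=
    { i := ModuleCat.ofHom i, r := ModuleCat.ofHom p, retract := ModuleCat.hom_ext h }
  exact r.hasProjectiveDimensionLT _

variable (B : Type u) [CommRing B] [Algebra R B]

/-- Kernels commute with a base change under which the kernel stays injected. -/
noncomputable def kerBaseChangeEquiv (f : F →ₗ[R] M) (hf : Function.Surjective f)
    (hinj : Function.Injective ((LinearMap.ker f).subtype.lTensor B)) :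
    (B ⊗[R] LinearMap.ker f) ≃ₗ[B] LinearMap.ker (f.baseChange B) :=
  LinearEquiv.ofBijective
    (((LinearMap.ker f).subtype.baseChange B).codRestrict _ fun x => by
      rw [LinearMap.mem_ker]
      induction x with
      | zero => simp
      | add a b ha hb => simp only [map_add, ha, hb, add_zero]
      | tmul b y => simp [LinearMap.mem_ker.1 y.2])
    ⟨fun x y h => hinj (congrArg Subtype.val h), fun y => by
      obtain ⟨x, hx⟩ := (lTensor_exact B (LinearMap.exact_subtype_ker_map f) hf y.1).mp y.2
      exact ⟨x, Subtype.ext hx⟩⟩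

lemma pdLE_baseChange_succ_iff (f : F →ₗ[R] M) (hf : Function.Surjective f)
    (hinj : Function.Injective ((LinearMap.ker f).subtype.lTensor B)) [Module.Projective R F] (n : ℕ) :
    PdLE B (B ⊗[R] M) (n + 1) ↔ PdLE B (B ⊗[R] LinearMap.ker f) n := by
  rw [pdLE_succ_iff (f.baseChange B) (LinearMap.lTensor_surjective B hf) n]
  exact (pdLE_congr (kerBaseChangeEquiv B f hf hinj) n).symm

lemma pdLE_baseChange [Module.Flat R B] : ∀ (n : ℕ) {M : Type u} [AddCommGroup M] [Module R M],
    PdLE R M n → PdLE B (B ⊗[R] M) n := by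
  intro n
  induction n with
  | zero =>
    intro M _ _ h
    rw [pdLE_zero_iff] at h ⊢
    infer_instance
  | succ n ih =>
    intro M _ _ h
    let f : (M →₀ R) →ₗ[R] M := Finsupp.linearCombination R id
    have hf : Function.Surjective f := Finsupp.linearCombination_surjective R Function.surjective_id
    rw [pdLE_baseChange_succ_iff B f hf
      (Module.Flat.lTensor_preserves_injective_linearMap _ Subtype.val_injective) n]
    exact ih ((pdLE_succ_iff f hf n).mp h)

lemma pdLE_of_faithfullyFlat [IsNoetherianRing R] [Module.FaithfullyFlat R B] :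
    ∀ (n : ℕ) {M : Type u} [AddCommGroup M] [Module R M] [Module.Finite R M],
    PdLE B (B ⊗[R] M) n → PdLE R M n := by
  intro n
  induction n with
  | zero =>
    intro M _ _ _ h
    rw [pdLE_zero_iff] at h ⊢
    have := Module.Flat.of_flat_tensorProduct R M B
    have := Module.finitePresentation_of_finite R M
    exact Module.Flat.projective_of_finitePresentation
  | succ n ih =>
    intro M _ _ _ h
    obtain ⟨k, f, hf⟩ := Module.Finite.exists_fin' R M
    rw [pdLE_succ_iff f hf n]
    exact ih ((pdLE_baseChange_succ_iff B f hf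
      (Module.Flat.lTensor_preserves_injective_linearMap _ Subtype.val_injective) n).mp h)

/-- If `x` is regular on `M`, kernels of maps onto `M` survive reduction mod `x`. -/
lemma injective_lTensor_quotient {x : R} (hx : IsSMulRegular M x) (f : F →ₗ[R] M) :
    Function.Injective ((LinearMap.ker f).subtype.lTensor (R ⧸ Ideal.span {x})) := by
  refine (injective_iff_map_eq_zero _).mpr fun z hz => ?_
  obtain ⟨n, rfl⟩ := TensorProduct.mk_surjective R (LinearMap.ker f) (R ⧸ Ideal.span {x})
    Ideal.Quotient.mk_surjective z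
  rw [TensorProduct.mk_apply, LinearMap.lTensor_tmul] at hz
  have h1 := congrArg (TensorProduct.quotTensorEquivQuotSMul F (Ideal.span {x})) (show
    (Ideal.Quotient.mk (Ideal.span {x}) 1) ⊗ₜ[R] (n : F) = 0 from hz)
  rw [map_zero, TensorProduct.quotTensorEquivQuotSMul_mk_tmul, one_smul,
    Submodule.Quotient.mk_eq_zero, Submodule.ideal_span_singleton_smul] at h1
  obtain ⟨y, -, hy⟩ := h1
  have hy' : f y = 0 := hx (show x • f y = x • (0 : M) by
    rw [smul_zero, ← map_smul, show x • y = n from hy]; exact LinearMap.mem_ker.1 n.2)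
  have hn : n = x • (⟨y, LinearMap.mem_ker.2 hy'⟩ : LinearMap.ker f) := Subtype.ext hy.symm
  rw [TensorProduct.mk_apply, hn, ← TensorProduct.smul_tmul]
  have h0 : x • (1 : R ⧸ Ideal.span {x}) = 0 := by
    rw [Algebra.smul_def, mul_one]
    exact Ideal.Quotient.eq_zero_iff_mem.mpr (Ideal.mem_span_singleton_self x)
  rw [h0, zero_tmul]

open IsLocalRing in
/-- Change of rings modulo a regular element. -/
theorem pdLE_quotient_iff [IsLocalRing R] [IsNoetherianRing R] {x : R} (hx : x ∈ maximalIdeal R)
    (hxR : IsSMulRegular R x) :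
    ∀ (n : ℕ) {M : Type u} [AddCommGroup M] [Module R M] [Module.Finite R M], IsSMulRegular M x →
      (PdLE R M n ↔ PdLE (R ⧸ Ideal.span {x}) ((R ⧸ Ideal.span {x}) ⊗[R] M) n) := by
  intro n
  induction n with
  | zero =>
    intro M _ _ _ hxM
    rw [pdLE_zero_iff, pdLE_zero_iff]
    refine ⟨fun _ => inferInstance, fun h => ?_⟩
    have : Module.Flat R M := by
      refine GrothLib.Flatness.flat_of_localCriterion (S := R) (Ideal.span {x}) ?_ ?_ inferInstance
      · rw [Algebra.algebraMap_self, Ideal.map_id]
        exact ((Ideal.span_singleton_le_iff_mem _).mpr hx).trans (maximalIdeal_le_jacobson _)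
      · refine (injective_iff_map_eq_zero _).mpr fun z hz => ?_
        obtain ⟨m, rfl⟩ : ∃ m : M, m ⊗ₜ[R] (⟨x, Ideal.mem_span_singleton_self x⟩ : Ideal.span {x}) = z := by
          clear hz
          induction z with
          | zero => exact ⟨0, zero_tmul _ _⟩
          | add a b ha hb =>
            obtain ⟨a, rfl⟩ := ha
            obtain ⟨b, rfl⟩ := hb
            exact ⟨a + b, add_tmul _ _ _⟩
          | tmul m i =>
            obtain ⟨i, hi⟩ := i
            obtain ⟨r, rfl⟩ := Ideal.mem_span_singleton'.mp hi
            exact ⟨r • m, by rw [TensorProduct.smul_tmul]; rfl⟩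
        have h1 := congrArg (TensorProduct.rid R M) hz
        rw [map_zero, LinearMap.lTensor_tmul, TensorProduct.rid_tmul] at h1
        rw [hxM (show x • m = x • (0 : M) by rw [smul_zero]; exact h1), zero_tmul]
    have := Module.finitePresentation_of_finite R M
    exact Module.Flat.projective_of_finitePresentation
  | succ n ih =>
    intro M _ _ _ hxM
    obtain ⟨k, f, hf⟩ := Module.Finite.exists_fin' R M
    rw [pdLE_succ_iff f hf n, pdLE_baseChange_succ_iff _ f hf (injective_lTensor_quotient hxM f) n]
    refine ih fun a b hab => Subtype.ext ?_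
    funext i
    exact hxR (congrFun (congrArg Subtype.val hab) i)

end GrothLib.Serre
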