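import Groth.Agent.Lib.Serre.Regular
import Mathlib.RingTheory.Regular.ProjectiveDimension
import Mathlib.RingTheory.LocalProperties.ProjectiveDimension
import Mathlib.RingTheory.KrullDimension.Basic
import Mathlib.RingTheory.Localization.AtPrime.Basic

/-! Projective dimension of finite modules is detected by `Ext(M, A)`. -/

universe u

open CategoryTheory CategoryTheory.Abelian IsLocalRing

namespace GrothLib.Serre

variable {A : Type u} [CommRing A]

lemma subsingleton_ext_pi {X : ModuleCat.{u} A} {p : ℕ}
    (h : Subsingleton (Ext X (ModuleCat.of A A) p)) :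
    ∀ k : ℕ, Subsingleton (Ext X (ModuleCat.of A (Fin k → A)) p) := by
  intro k
  induction k with
  | zero =>
    have : Limits.IsZero (ModuleCat.of A (Fin 0 → A)) := ModuleCat.isZero_of_subsingleton _
    refine subsingleton_of_forall_eq 0 fun x => ?_
    rw [← x.comp_mk₀_id, this.eq_of_src (𝟙 _) 0, Ext.mk₀_zero, Ext.comp_zero]
  | succ k ih =>
    let f : A →ₗ[A] (Fin (k + 1) → A) := LinearMap.single A (fun _ => A) 0
    let g : (Fin (k + 1) → A) →ₗ[A] (Fin k → A) := LinearMap.funLeft A A Fin.succ
    let S : ShortComplex (ModuleCat.{u} A) := ShortComplex.mk (ModuleCat.ofHom f) (ModuleCat.ofHom g)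
      (ModuleCat.hom_ext (LinearMap.ext fun a => funext fun i =>
        show (Pi.single 0 a : Fin (k + 1) → A) i.succ = 0 from Pi.single_eq_of_ne (Fin.succ_ne_zero i) _))
    have hS : S.ShortExact :=
      { exact := (ShortComplex.moduleCat_exact_iff _).2 fun v hv => ⟨(v : Fin (k + 1) → A) 0, by
          funext i
          refine Fin.cases ?_ (fun i => ?_) i
          · show (Pi.single 0 _ : Fin (k + 1) → A) 0 = _
            exact Pi.single_eq_same _ _
          · show (Pi.single 0 ((v : Fin (k + 1) → A) 0) : Fin (k + 1) → A) i.succ = (v : Fin (k + 1) → A) i.succ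
            rw [show (v : Fin (k + 1) → A) i.succ = 0 from congrFun hv i]
            exact Pi.single_eq_of_ne (Fin.succ_ne_zero i) _⟩
        mono_f := (ModuleCat.mono_iff_injective _).2 (Pi.single_injective (M := fun _ => A) 0)
        epi_g := (ModuleCat.epi_iff_surjective _).2 fun y => ⟨(Fin.cons 0 y : Fin (k + 1) → A), funext fun i => Fin.cons_succ (α := fun _ => A) 0 y i⟩ }
    refine subsingleton_of_forall_eq 0 fun x => ?_
    obtain ⟨y, rfl⟩ := Ext.covariant_sequence_exact₂ X hS x (@Subsingleton.elim _ ih _ _)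
    rw [@Subsingleton.elim _ h y 0, Ext.zero_comp]

variable [IsNoetherianRing A] {M : Type u} [AddCommGroup M] [Module A M] [Module.Finite A M]

theorem hasPDLT_of_ext_self (n : ℕ) (hM : HasProjectiveDimensionLT (ModuleCat.of A M) (n + 1))
    (h : Subsingleton (Ext (ModuleCat.of A M) (ModuleCat.of A A) n)) :
    HasProjectiveDimensionLT (ModuleCat.of A M) n := by
  refine ModuleCat.hasProjectiveDimensionLT_of_forall_finite _ _ fun L _ => ?_
  obtain ⟨k, f, hf⟩ := Module.Finite.exists_fin' A L
  let S : ShortComplex (ModuleCat.{u} A) :=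
    ShortComplex.mk (ModuleCat.ofHom (LinearMap.ker f).subtype) (ModuleCat.ofHom f)
      (ModuleCat.hom_ext (LinearMap.ext fun z => LinearMap.mem_ker.1 z.2))
  have hS : S.ShortExact :=
    { exact := (ShortComplex.moduleCat_exact_iff _).2 fun v hv => ⟨⟨v, LinearMap.mem_ker.2 hv⟩, rfl⟩
      mono_f := (ModuleCat.mono_iff_injective _).2 Subtype.val_injective
      epi_g := (ModuleCat.epi_iff_surjective _).2 hf }
  have := subsingleton_ext_pi h k
  refine subsingleton_of_forall_eq 0 fun x => ?_
  obtain ⟨y, hy⟩ := Ext.covariant_sequence_exact₃ (ModuleCat.of A M) hS x (n₁ := n + 1) rfl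
    (@Subsingleton.elim _ (HasProjectiveDimensionLT.subsingleton _ (n + 1) (n + 1) le_rfl _) _ _)
  rw [← hy, @Subsingleton.elim _ this y 0, Ext.zero_comp]

theorem pdLE_of_ext_self (d : ℕ) : ∀ N : ℕ, PdLE A M N →
    (∀ j, d < j → j ≤ N → Subsingleton (Ext (ModuleCat.of A M) (ModuleCat.of A A) j)) →
      PdLE A M d := by
  intro N
  induction N with
  | zero => exact fun hM _ => pdLE_mono d.zero_le hM
  | succ N ih =>
    intro hM h
    by_cases hd : N + 1 ≤ d
    · exact pdLE_mono hd hM
    · exact ih (hasPDLT_of_ext_self (N + 1) hM (h (N + 1) (by omega) le_rfl))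
        fun j h1 h2 => h j h1 (by omega)

/-- A noetherian ring regular at maximal ideals and of dimension `≤ N` has `pd ≤ N` for finite
modules. -/
theorem pdLE_of_regular_finiteDim (N : ℕ) (hdim : ringKrullDim A ≤ N)
    (hreg : ∀ m : MaximalSpectrum A, IsRegularLocalRing (Localization.AtPrime m.asIdeal)) :
    PdLE A M N := by
  refine (ModuleCat.hasProjectiveDimensionLE_iff_forall_maximalSpectrum N (ModuleCat.of A M)).mpr
    fun m => ?_
  have := hreg m
  obtain ⟨k, hk, -⟩ := GrothLib.RegLoc.exists_dim_eq (R := Localization.AtPrime m.asIdeal)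
  have hle : ringKrullDim (Localization.AtPrime m.asIdeal) ≤ ringKrullDim A := by
    rw [IsLocalization.AtPrime.ringKrullDim_eq_height m.asIdeal (Localization.AtPrime m.asIdeal)]
    exact Ideal.height_le_ringKrullDim_of_ne_top m.isMaximal.ne_top
  have hkN : k ≤ N := by
    rw [hk] at hle
    exact_mod_cast hle.trans hdim
  exact pdLE_mono hkN (pdLE_of_isRegularLocalRing _ k hk _)

end GrothLib.Serre
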