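import Groth.Agent.Lib.RegLoc.Basic
import Mathlib.RingTheory.Nakayama

/-!
# Parts of regular systems of parameters; fixed ideals of tame actions
-/

universe u v

open IsLocalRing RingTheory.Sequence

namespace GrothLib.Serre

/-- Elements of the maximal ideal are independent modulo its square. -/
def IndepSq {R : Type u} [CommRing R] [IsLocalRing R] {m : ℕ} (f : Fin m → R) : Prop :=
  ∀ c : Fin m → R, ∑ i, c i * f i ∈ maximalIdeal R ^ 2 → ∀ i, c i ∈ maximalIdeal R

/-- Elements independent modulo the square of the maximal ideal cut out a regular quotient and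
form a regular sequence. -/
theorem isRegularLocalRing_quotient_of_indepSq : ∀ (m : ℕ) (R : Type u) [CommRing R]
    [IsRegularLocalRing R] (f : Fin m → R), (∀ i, f i ∈ maximalIdeal R) → IndepSq f →
      IsRegularLocalRing (R ⧸ Ideal.span (Set.range f)) ∧ IsWeaklyRegular R (List.ofFn f) := by
  intro m
  induction m with
  | zero =>
    intro R _ _ f _ _
    refine ⟨?_, by simp⟩
    have h0 : Ideal.span (Set.range f) = ⊥ := by simp [Set.range_eq_empty]
    exact IsRegularLocalRing.of_ringEquiv ((RingEquiv.quotientBot R).symm.trans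
      (Ideal.quotEquivOfEq h0.symm))
  | succ m ih =>
    intro R _ _ f hf hind
    have := GrothLib.CMFree.isDomain_of_isRegularLocalRing R
    obtain ⟨y, z, rfl⟩ : ∃ y z, f = Fin.cons y z := ⟨f 0, Fin.tail f, (Fin.cons_self_tail f).symm⟩
    have hy : y ∈ maximalIdeal R := by simpa using hf 0
    have hy2 : y ∉ maximalIdeal R ^ 2 := fun h => by
      have := hind (Fin.cons 1 0) (by simpa [Fin.sum_univ_succ] using h) 0
      simp only [Fin.cons_zero] at this
      exact (maximalIdeal.isMaximal R).ne_top ((Ideal.eq_top_iff_one _).2 this)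
    have hy0 : y ≠ 0 := fun e => hy2 (e ▸ Submodule.zero_mem _)
    obtain ⟨hreg, hS, -⟩ := GrothLib.RegLoc.quotient_isRegularLocalRing hy hy2
    let S := R ⧸ Ideal.span {y}
    let q := Ideal.Quotient.mk (Ideal.span ({y} : Set R))
    have hmax : (maximalIdeal R).map q = maximalIdeal S := GrothLib.RegLoc.map_maximalIdeal_quotient _
    have hz : ∀ i, q (z i) ∈ maximalIdeal S := fun i =>
      hmax ▸ Ideal.mem_map_of_mem q (by simpa using hf i.succ)
    have hind' : IndepSq fun i => q (z i) := by
      intro c hc i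
      choose b hb using fun j => Ideal.Quotient.mk_surjective (c j)
      have h1 : q (∑ j, b j * z j) ∈ (maximalIdeal R ^ 2).map q := by
        rw [Ideal.map_pow, hmax, map_sum]
        simpa [q, hb] using hc
      obtain ⟨w, hw, hwe⟩ := (Ideal.mem_map_iff_of_surjective q Ideal.Quotient.mk_surjective).1 h1
      obtain ⟨a, ha⟩ := Ideal.mem_span_singleton'.1 (Ideal.Quotient.eq.1 hwe)
      have := hind (Fin.cons a b) (by
        simp only [Fin.sum_univ_succ, Fin.cons_zero, Fin.cons_succ]
        rw [ha, sub_add_cancel]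
        exact hw) i.succ
      rw [Fin.cons_succ] at this
      rw [← hb i, ← hmax]
      exact Ideal.mem_map_of_mem q this
    obtain ⟨hq, hw⟩ := ih S (fun i => q (z i)) hz hind'
    refine ⟨?_, ?_⟩
    · have e1 : (Ideal.span (Set.range z)).map q = Ideal.span (Set.range fun i => q (z i)) := by
        rw [Ideal.map_span, ← Set.range_comp]; rfl
      have e2 : Ideal.span (Set.range (Fin.cons y z)) = Ideal.span {y} ⊔ Ideal.span (Set.range z) := by
        rw [Fin.range_cons, Ideal.span_insert]
      exact IsRegularLocalRing.of_ringEquiv (R := S ⧸ Ideal.span (Set.range fun i => q (z i)))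
        ((Ideal.quotEquivOfEq e1.symm).trans
          ((DoubleQuot.quotQuotEquivQuotSup _ _).trans (Ideal.quotEquivOfEq e2.symm)))
    · rw [List.ofFn_succ, isWeaklyRegular_cons_iff]
      simp only [Fin.cons_succ]
      refine ⟨(isRegular_iff_ne_zero.2 hy0).left.isSMulRegular, ?_⟩
      have e : S ≃ₗ[R] QuotSMulTop y R := Submodule.quotEquivOfEq _ _ (by
        simp [← Submodule.ideal_span_singleton_smul])
      rw [Fin.cons_zero, ← e.isWeaklyRegular_congr, ← isWeaklyRegular_map_algebraMap_iff S S,
        List.map_ofFn]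
      exact hw

/-- An ideal meeting the square of the maximal ideal in `𝔪 J` is generated by elements
independent modulo the square. -/
theorem exists_indepSq_generators {R : Type u} [CommRing R] [IsLocalRing R] [IsNoetherianRing R]
    (J : Ideal R) (h : J ⊓ maximalIdeal R ^ 2 ≤ maximalIdeal R * J) :
    ∃ (m : ℕ) (f : Fin m → R), Ideal.span (Set.range f) = J ∧ IndepSq f := by
  classical
  obtain ⟨f, hf⟩ := GrothLib.RegLoc.exists_generators_fin J
  refine ⟨_, f, hf, fun c hc i => ?_⟩
  by_contra hi
  have hu : IsUnit (c i) := of_not_not hi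
  let s := Finset.univ.erase i
  have hle : Ideal.span (f '' s) ≤ J := (Ideal.span_mono (Set.image_subset_range f s)).trans hf.le
  have hsum : ∑ j, c j * f j ∈ J :=
    hf.le (Submodule.sum_mem _ fun j _ => Ideal.mul_mem_left _ _ (Ideal.subset_span ⟨j, rfl⟩))
  have hsup : J ≤ Ideal.span (f '' s) ⊔ maximalIdeal R • J := by
    conv_lhs => rw [← hf]
    rw [Ideal.span_le]
    rintro _ ⟨j, rfl⟩
    by_cases hj : j = i
    · subst hj
      rw [SetLike.mem_coe, ← Ideal.unit_mul_mem_iff_mem _ hu,
        show c j * f j = (∑ k, c k * f k) - ∑ k ∈ s, c k * f k by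
          rw [← Finset.add_sum_erase _ _ (Finset.mem_univ j)]; simp [s]]
      exact sub_mem (Ideal.mem_sup_right (h ⟨hsum, hc⟩)) (Submodule.sum_mem _ fun k hk =>
        Ideal.mem_sup_left (Ideal.mul_mem_left _ _ (Ideal.subset_span ⟨k, hk, rfl⟩)))
    · exact Ideal.mem_sup_left (Ideal.subset_span ⟨j, by simp [s, hj], rfl⟩)
  have heq : Ideal.span (f '' s) = J := le_antisymm hle
    (Submodule.le_of_le_smul_of_le_jacobson_bot (IsNoetherian.noetherian J)
      (maximalIdeal_le_jacobson ⊥) hsup)
  have h2 := Submodule.spanFinrank_span_le_ncard_of_finite (R := R) (s.finite_toSet.image f)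
  rw [Ideal.submodule_span_eq, heq] at h2
  have h3 : (f '' (s : Set (Fin _))).ncard < J.spanFinrank :=
    (Set.ncard_image_le s.finite_toSet).trans_lt (by
      rw [Set.ncard_coe_finset, Finset.card_erase_of_mem (Finset.mem_univ i), Finset.card_univ,
        Fintype.card_fin]
      exact Nat.sub_lt i.pos one_pos)
  exact absurd (h2.trans_lt h3) (lt_irrefl _)

/-- The ideal generated by the `φ i a - a` for a finite family of automorphisms closed under
composition, of order invertible in the base field, meets the square of the maximal ideal in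
`𝔪 J`. -/
theorem fixedIdeal_inf_sq_le {k : Type v} {A : Type u} [Field k] [CommRing A] [Algebra k A]
    [IsLocalRing A] (hres : Function.Surjective (algebraMap k (ResidueField A)))
    {ι : Type*} [Fintype ι] (hι : (Fintype.card ι : k) ≠ 0) (φ : ι → A →ₐ[k] A)
    (hloc : ∀ i, ∀ a ∈ maximalIdeal A, φ i a ∈ maximalIdeal A)
    (hperm : ∀ j, ∃ π : ι ≃ ι, ∀ i a, φ i (φ j a) = φ (π i) a)
    (J : Ideal A) (hJ : J = Ideal.span {x | ∃ i a, x = φ i a - a}) (hJm : J ≤ maximalIdeal A) :
    J ⊓ maximalIdeal A ^ 2 ≤ maximalIdeal A * J := by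
  intro z hz
  obtain ⟨hzJ, hz2⟩ := Ideal.mem_inf.1 hz
  let e : A →ₗ[k] A := (Fintype.card ι : k)⁻¹ • ∑ i, (φ i).toLinearMap
  have he : ∀ j a, e (φ j a - a) = 0 := by
    intro j a
    obtain ⟨π, hπ⟩ := hperm j
    rw [map_sub, sub_eq_zero]
    simp only [e, LinearMap.smul_apply, LinearMap.sum_apply, AlgHom.toLinearMap_apply, hπ]
    rw [π.sum_comp (fun i => φ i a)]
  have hmem : ∀ a, ∀ i, φ i a - a ∈ J := fun a i => hJ ▸ Ideal.subset_span ⟨i, a, rfl⟩
  have h2 : ∀ a ∈ maximalIdeal A ^ 2, ∀ i, φ i a - a ∈ maximalIdeal A * J := by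
    intro a ha i
    rw [pow_two] at ha
    refine Submodule.mul_induction_on ha (fun x hx y hy => ?_) fun x y hx hy => ?_
    · rw [map_mul, show φ i x * φ i y - x * y = φ i y * (φ i x - x) + x * (φ i y - y) by ring]
      exact add_mem (Ideal.mul_mem_mul (hloc i y hy) (hmem x i)) (Ideal.mul_mem_mul hx (hmem y i))
    · rw [map_add, add_sub_add_comm]; exact add_mem hx hy
  have h3 : ∀ a ∈ maximalIdeal A ^ 2, a - e a ∈ maximalIdeal A * J := by
    intro a ha
    have : a - e a = (Fintype.card ι : k)⁻¹ • ∑ i, (a - φ i a) := by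
      simp only [e, LinearMap.smul_apply, LinearMap.sum_apply, AlgHom.toLinearMap_apply]
      rw [Finset.sum_sub_distrib, Finset.sum_const, Finset.card_univ, smul_sub, ← Nat.cast_smul_eq_nsmul k,
        smul_smul, inv_mul_cancel₀ hι, one_smul]
    rw [this, Algebra.smul_def]
    refine Ideal.mul_mem_left _ _ (Submodule.sum_mem _ fun i _ => ?_)
    rw [← neg_sub]
    exact neg_mem (h2 a ha i)
  -- reduce to a `k`-linear combination of the generators
  obtain ⟨z', hz', hzz'⟩ : ∃ z', e z' = 0 ∧ z - z' ∈ maximalIdeal A * J := by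
    clear hz hz2
    have hz'' : z ∈ Submodule.span A {x | ∃ i a, x = φ i a - a} := by rw [hJ] at hzJ; exact hzJ
    induction hz'' using Submodule.span_induction with
    | mem x hx =>
      obtain ⟨i, a, rfl⟩ := hx
      exact ⟨_, he i a, by simp⟩
    | zero => exact ⟨0, map_zero e, by simp⟩
    | add x y hx' hy' ihx ihy =>
      obtain ⟨x', hx1, hx2⟩ := ihx (hJ.ge hx')
      obtain ⟨y', hy1, hy2⟩ := ihy (hJ.ge hy')
      exact ⟨x' + y', by rw [map_add, hx1, hy1, add_zero],
        by rw [add_sub_add_comm]; exact add_mem hx2 hy2⟩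
    | smul r x hx' ih =>
      obtain ⟨x', hx1, hx2⟩ := ih (hJ.ge hx')
      obtain ⟨c, hc⟩ := hres (residue A r)
      refine ⟨c • x', by rw [map_smul, hx1, smul_zero], ?_⟩
      have hr : r - algebraMap k A c ∈ maximalIdeal A := by
        rw [← residue_eq_zero_iff, map_sub, sub_eq_zero]
        exact hc.symm
      have hxJ : x ∈ J := hJ.ge hx'
      rw [smul_eq_mul, Algebra.smul_def, show r * x - algebraMap k A c * x' =
        (r - algebraMap k A c) * x + algebraMap k A c * (x - x') by ring]
      exact add_mem (Ideal.mul_mem_mul hr hxJ) (Ideal.mul_mem_left _ _ hx2)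
  have hz'2 : z' ∈ maximalIdeal A ^ 2 := by
    have : z - z' ∈ maximalIdeal A ^ 2 := by
      rw [pow_two]; exact Ideal.mul_mono_right hJm hzz'
    simpa using sub_mem hz2 this
  have := h3 z' hz'2
  rw [hz', sub_zero] at this
  simpa using add_mem hzz' this

end GrothLib.Serre
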