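import Groth.Agent.Lib.Serre.Ring
import Mathlib.RingTheory.Localization.AtPrime.Basic
import Mathlib.RingTheory.SurjectiveOnStalks
import Mathlib.RingTheory.RegularLocalRing.Polynomial
import Mathlib.RingTheory.AdjoinRoot

/-! Regularity of hypersurfaces in regular rings. -/

universe u

open IsLocalRing Polynomial

namespace GrothLib.Serre

/-- `R/(f)` is regular if `f` is nowhere singular. -/
theorem isRegularRing_quotient_of_notMem_sq {R : Type u} [CommRing R] [IsRegularRing R] (f : R)
    (h : ∀ P : Ideal R, P.IsMaximal → f ∈ P → ∀ u : R, u ∉ P → u * f ∉ P ^ 2) :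
    IsRegularRing (R ⧸ Ideal.span {f}) := by
  refine isRegularRing_of_forall_isMaximal _ fun Q _ => ?_
  let π := Ideal.Quotient.mk (Ideal.span {f})
  let P := Q.comap π
  have hPm : P.IsMaximal := Ideal.comap_isMaximal_of_surjective π Ideal.Quotient.mk_surjective
  have hfP : f ∈ P := by
    show π f ∈ Q
    rw [Ideal.Quotient.eq_zero_iff_mem.mpr (Ideal.mem_span_singleton_self f)]
    exact Q.zero_mem
  let RP := Localization.AtPrime P
  have : IsRegularLocalRing RP := IsRegularRing.isRegularLocalRing_localization P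
  have hmem : algebraMap R RP f ∈ maximalIdeal RP := by
    exact (IsLocalization.AtPrime.to_map_mem_maximal_iff RP P f).mpr hfP
  have hnsq : algebraMap R RP f ∉ maximalIdeal RP ^ 2 := by
    rw [← Localization.AtPrime.map_eq_maximalIdeal, ← Ideal.map_pow,
      IsLocalization.algebraMap_mem_map_algebraMap_iff P.primeCompl]
    rintro ⟨u, hu, huf⟩
    exact h P hPm hfP u hu huf
  obtain ⟨hreg, -, -⟩ := GrothLib.RegLoc.quotient_isRegularLocalRing hmem hnsq
  let φ : RP →+* Localization.AtPrime Q := Localization.localRingHom P Q π rfl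
  have hφ : Function.Surjective φ :=
    (RingHom.surjectiveOnStalks_of_surjective Ideal.Quotient.mk_surjective).localRingHom_surjective
      _ _ rfl
  have hker : RingHom.ker φ = Ideal.span {algebraMap R RP f} := by
    ext x
    obtain ⟨a, ⟨s, hs⟩, rfl⟩ := IsLocalization.exists_mk'_eq P.primeCompl x
    rw [← Set.image_singleton, ← Ideal.map_span, RingHom.mem_ker, Localization.localRingHom_mk',
      IsLocalization.mk'_eq_zero_iff, IsLocalization.mk'_mem_map_algebraMap_iff]
    constructor
    · rintro ⟨⟨t, ht⟩, hta⟩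
      obtain ⟨t, rfl⟩ := Ideal.Quotient.mk_surjective t
      exact ⟨t, ht, Ideal.Quotient.eq_zero_iff_mem.mp (by rw [map_mul]; exact hta)⟩
    · rintro ⟨t, ht, hta⟩
      exact ⟨⟨π t, ht⟩, by rw [← map_mul]; exact Ideal.Quotient.eq_zero_iff_mem.mpr hta⟩
  exact IsRegularLocalRing.of_ringEquiv (R := RP ⧸ Ideal.span {algebraMap R RP f})
    ((Ideal.quotEquivOfEq hker.symm).trans (RingHom.quotientKerEquivOfSurjective hφ))

/-- If some derivation takes a unit value on `f` modulo `f` then `R/(f)` is regular. -/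
theorem isRegularRing_quotient_of_derivation {R : Type u} [CommRing R] [IsRegularRing R] (f : R)
    (D : Derivation ℤ R R) (hD : IsUnit (Ideal.Quotient.mk (Ideal.span {f}) (D f))) :
    IsRegularRing (R ⧸ Ideal.span {f}) := by
  refine isRegularRing_quotient_of_notMem_sq f fun P hP hfP u hu huf => ?_
  have hsq : ∀ a ∈ P ^ 2, D a ∈ P := fun a ha => by
    rw [pow_two] at ha
    refine Submodule.mul_induction_on ha (fun x hx y hy => ?_) fun x y hx hy => by
      rw [map_add]; exact P.add_mem hx hy
    rw [D.leibniz]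
    exact P.add_mem (P.mul_mem_right _ hx) (P.mul_mem_right _ hy)
  have h1 := hsq _ huf
  rw [D.leibniz] at h1
  have h2 : u • D f ∈ P := (P.add_mem_iff_left (P.mul_mem_right _ hfP)).mp h1
  rcases hP.isPrime.mem_or_mem h2 with h3 | h3
  · exact hu h3
  obtain ⟨v, hv⟩ := isUnit_iff_exists_inv.mp hD
  obtain ⟨v, rfl⟩ := Ideal.Quotient.mk_surjective v
  rw [← map_mul, ← map_one (Ideal.Quotient.mk (Ideal.span {f})), Ideal.Quotient.eq] at hv
  have h4 := (P.sub_mem_iff_right (P.mul_mem_right v h3)).mp
    ((Ideal.span_singleton_le_iff_mem P).mpr hfP hv)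
  exact hP.ne_top ((Ideal.eq_top_iff_one _).mpr h4)

lemma notMem_sq_of_isRegularLocalRing_quotient {A : Type u} [CommRing A] [IsRegularLocalRing A]
    {s : A} (hs : s ≠ 0) (hsm : s ∈ maximalIdeal A) [IsRegularLocalRing (A ⧸ Ideal.span {s})] :
    s ∉ maximalIdeal A ^ 2 := by
  intro hs2
  have := GrothLib.CMFree.isDomain_of_isRegularLocalRing A
  have hdim := ringKrullDim_quotient_span_singleton_succ_eq_ringKrullDim_of_mem_nonZeroDivisors
    (mem_nonZeroDivisors_of_ne_zero hs) hsm
  obtain ⟨z, hz⟩ := GrothLib.RegLoc.exists_generators_fin (maximalIdeal (A ⧸ Ideal.span {s}))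
  choose g hg using fun i => Ideal.Quotient.mk_surjective (I := Ideal.span {s}) (z i)
  have hgm : Ideal.span (Set.range g) ≤ maximalIdeal A := by
    rw [Ideal.span_le]
    rintro _ ⟨i, rfl⟩
    rw [SetLike.mem_coe, mem_maximalIdeal, mem_nonunits_iff]
    intro hu
    exact (mem_maximalIdeal _).1 (hz ▸ Ideal.subset_span ⟨i, rfl⟩ : z i ∈ maximalIdeal _) (hg i ▸ hu.map _)
  have hgen := GrothLib.RegLoc.eq_maximalIdeal_of_sup_sq hgm fun a ha => by
    have h1 : Ideal.Quotient.mk (Ideal.span {s}) a ∈
        (Ideal.span (Set.range g)).map (Ideal.Quotient.mk (Ideal.span {s})) := by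
      rw [Ideal.map_span, ← Set.range_comp, show Ideal.Quotient.mk (Ideal.span {s}) ∘ g = z from
        funext hg, hz, ← GrothLib.RegLoc.map_maximalIdeal_quotient]
      exact Ideal.mem_map_of_mem _ ha
    rw [← Ideal.mem_comap, Ideal.comap_map_of_surjective _ Ideal.Quotient.mk_surjective,
      ← RingHom.ker_eq_comap_bot, Ideal.mk_ker] at h1
    exact sup_le_sup_left ((Ideal.span_singleton_le_iff_mem _).mpr hs2) _ h1
  have hle := GrothLib.RegLoc.spanFinrank_le_of_span g hgen
  rw [← IsRegularLocalRing.spanFinrank_maximalIdeal (R := A),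
    ← IsRegularLocalRing.spanFinrank_maximalIdeal (R := A ⧸ Ideal.span {s})] at hdim
  norm_cast at hdim
  omega

/-- Adjoining a tame root of a regular parameter keeps regularity. -/
theorem isRegularRing_adjoinRoot_X_pow_sub_C {A : Type u} [CommRing A] [IsLocalRing A]
    [IsRegularRing A] {s : A} (hs : s ≠ 0) [IsRegularRing (A ⧸ Ideal.span {s})]
    {e : ℕ} (he : 0 < e) (heu : IsUnit (e : A)) :
    IsRegularRing (AdjoinRoot (X ^ e - C s)) := by
  have := IsRegularLocalRing.of_isRegularRing_of_isLocalRing A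
  refine isRegularRing_quotient_of_notMem_sq (X ^ e - C s) fun P hP hfP u hu huf => ?_
  have hsq : ∀ a ∈ P ^ 2, derivative a ∈ P := fun a ha => by
    rw [pow_two] at ha
    refine Submodule.mul_induction_on ha (fun x hx y hy => ?_) fun x y hx hy => by
      rw [map_add]; exact P.add_mem hx hy
    rw [derivative_mul]
    exact P.add_mem (P.mul_mem_left _ hy) (P.mul_mem_right _ hx)
  have h1 := hsq _ huf
  rw [derivative_mul] at h1
  have h2 : u * derivative (X ^ e - C s) ∈ P :=
    (P.add_mem_iff_right (P.mul_mem_left _ hfP)).mp h1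
  have h3 := (hP.isPrime.mem_or_mem h2).resolve_left hu
  rw [derivative_sub, derivative_X_pow, derivative_C, sub_zero] at h3
  rcases hP.isPrime.mem_or_mem h3 with h4 | h4
  · exact hP.ne_top (P.eq_top_of_isUnit_mem h4 (heu.map (C : A →+* A[X])))
  have hX : X ∈ P := hP.isPrime.mem_of_pow_mem _ h4
  have hsP : C s ∈ P := (P.sub_mem_iff_right (P.pow_mem_of_mem hX e he)).mp hfP
  have hP0 : ∀ p ∈ P, constantCoeff p ∈ maximalIdeal A := fun p hp => by
    by_contra hc
    rw [mem_maximalIdeal, mem_nonunits_iff, not_not] at hc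
    refine hP.ne_top (P.eq_top_of_isUnit_mem ?_ (hc.map (C : A →+* A[X])))
    have hd : p - C (constantCoeff p) ∈ P := by
      obtain ⟨q, hq⟩ := X_dvd_sub_C (p := p)
      rw [constantCoeff_apply, hq]
      exact P.mul_mem_right _ hX
    exact (P.sub_mem_iff_right hp).mp hd
  have hsm : s ∈ maximalIdeal A := by simpa using hP0 _ hsP
  have := GrothLib.RegLoc.isLocalRing_quotient ((Ideal.span_singleton_le_iff_mem _).2 hsm)
  have := IsRegularLocalRing.of_isRegularRing_of_isLocalRing (A ⧸ Ideal.span {s})
  refine notMem_sq_of_isRegularLocalRing_quotient hs hsm ?_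
  have h5 : constantCoeff (u * (X ^ e - C s)) ∈ maximalIdeal A ^ 2 := by
    have hle : P ≤ (maximalIdeal A).comap constantCoeff := hP0
    have := Ideal.mem_map_of_mem constantCoeff huf
    rw [Ideal.map_pow] at this
    exact Ideal.pow_right_mono (Ideal.map_le_iff_le_comap.mpr hle) 2 this
  have hu0 : IsUnit (constantCoeff u) := by
    by_contra hc
    refine hu ?_
    obtain ⟨q, hq⟩ := X_dvd_sub_C (p := u)
    have hd : u - C (constantCoeff u) ∈ P := by
      rw [constantCoeff_apply, hq]
      exact P.mul_mem_right _ hX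
    have hcm : C (constantCoeff u) ∈ P := by
      have hsurj : Function.Surjective (constantCoeff : A[X] →+* A) := fun a => ⟨C a, by simp⟩
      have hmle : P.map constantCoeff ≤ maximalIdeal A := Ideal.map_le_iff_le_comap.mpr hP0
      have hmax := (Ideal.map_eq_top_or_isMaximal_of_surjective constantCoeff hsurj hP).resolve_left
        fun h => (maximalIdeal.isMaximal A).ne_top (top_le_iff.mp (h ▸ hmle))
      have hmem : constantCoeff u ∈ P.map constantCoeff := by
        rw [eq_maximalIdeal hmax]; exact (mem_maximalIdeal _).mpr hc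
      obtain ⟨p, hp, hpu⟩ := (Ideal.mem_map_iff_of_surjective _ hsurj).mp hmem
      obtain ⟨q', hq'⟩ := X_dvd_sub_C (p := p)
      have hd' : p - C (constantCoeff p) ∈ P := by
        rw [constantCoeff_apply, hq']
        exact P.mul_mem_right _ hX
      rw [← hpu]
      exact (P.sub_mem_iff_right hp).mp hd'
    exact (P.sub_mem_iff_left hcm).mp hd
  rw [map_mul, map_sub, map_pow, show constantCoeff (X : A[X]) = 0 from coeff_X_zero,
    zero_pow he.ne', zero_sub, show constantCoeff (C s) = s from coeff_C_zero, mul_neg, neg_mem_iff] at h5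
  obtain ⟨w, hw⟩ := hu0.exists_left_inv
  have := Ideal.mul_mem_left _ w h5
  rwa [← mul_assoc, hw, one_mul] at this

end GrothLib.Serre
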