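import Groth.Agent.Lib.Serre.Partial
import Mathlib.RingTheory.Kaehler.Basic
import Mathlib.RingTheory.Filtration

/-!
# Differentials at a rational point; regularity in characteristic zero
-/

universe u v

open IsLocalRing KaehlerDifferential

namespace GrothLib.Serre

variable (k : Type v) (B : Type u) [Field k] [CommRing B] [Algebra k B] [IsLocalRing B]

/-- Projection to the constants. -/
theorem exists_const (hres : Function.Surjective (algebraMap k (ResidueField B))) :
    ∃ c : B →ₐ[k] k, ∀ b, b - algebraMap k B (c b) ∈ maximalIdeal B := by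
  let e : k ≃ₐ[k] ResidueField B :=
    AlgEquiv.ofBijective (Algebra.ofId k _) ⟨(algebraMap k _).injective, hres⟩
  refine ⟨e.symm.toAlgHom.comp (IsScalarTower.toAlgHom k B (ResidueField B)), fun b => ?_⟩
  rw [← residue_eq_zero_iff, map_sub, sub_eq_zero]
  exact (e.apply_symm_apply (residue B b)).symm

/-- The cotangent space at a rational point is a quotient of the differentials. -/
theorem exists_surjective_kaehler_cotangent (hres : Function.Surjective (algebraMap k (ResidueField B))) :
    ∃ L : Ω[B⁄k] →ₗ[B] CotangentSpace B, Function.Surjective L := by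
  obtain ⟨c, hc⟩ := exists_const k B hres
  let p : B →ₗ[k] maximalIdeal B :=
    { toFun := fun b => ⟨b - algebraMap k B (c b), hc b⟩
      map_add' := fun a b => Subtype.ext (by simp only [map_add, Submodule.coe_add]; ring)
      map_smul' := fun r b => Subtype.ext (by
        simp only [map_smul, smul_eq_mul, map_mul, RingHom.id_apply, Submodule.coe_smul_of_tower,
          Algebra.smul_def, AlgHom.commutes, Algebra.algebraMap_self]
        ring) }
  let D0 : Derivation k B (CotangentSpace B) := Derivation.mk'
    (((maximalIdeal B).toCotangent.restrictScalars k).comp p) fun a b => by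
      show (maximalIdeal B).toCotangent (p (a * b)) =
        a • (maximalIdeal B).toCotangent (p b) + b • (maximalIdeal B).toCotangent (p a)
      rw [← (maximalIdeal B).toCotangent.map_smul a (p b), ← (maximalIdeal B).toCotangent.map_smul b (p a),
        ← map_add, Ideal.toCotangent_eq]
      show (a * b - algebraMap k B (c (a * b))) -
        (a * (b - algebraMap k B (c b)) + b * (a - algebraMap k B (c a))) ∈ maximalIdeal B ^ 2
      rw [map_mul, map_mul, show (a * b - algebraMap k B (c a) * algebraMap k B (c b)) -
        (a * (b - algebraMap k B (c b)) + b * (a - algebraMap k B (c a))) =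
        -((a - algebraMap k B (c a)) * (b - algebraMap k B (c b))) by ring, pow_two]
      exact neg_mem (Ideal.mul_mem_mul (hc a) (hc b))
  refine ⟨D0.liftKaehlerDifferential, fun z => ?_⟩
  obtain ⟨⟨x, hx⟩, rfl⟩ := (maximalIdeal B).toCotangent_surjective z
  refine ⟨KaehlerDifferential.D k B x, ?_⟩
  rw [Derivation.liftKaehlerDifferential_comp_D]
  show (maximalIdeal B).toCotangent (p x) = _
  refine congrArg _ (Subtype.ext ?_)
  show x - algebraMap k B (c x) = x
  have h1 : algebraMap k B (c x) ∈ maximalIdeal B := by simpa using sub_mem hx (hc x)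
  have h0 : c x = 0 := by
    by_contra h
    exact (mem_maximalIdeal _).1 h1 ((isUnit_iff_ne_zero.2 h).map _)
  rw [h0, map_zero, sub_zero]

/-- The embedding dimension at a rational point is at most the number of generators of the
differentials. -/
theorem spanFinrank_maximalIdeal_le_of_span [IsNoetherianRing B]
    (hres : Function.Surjective (algebraMap k (ResidueField B))) {d : ℕ} (w : Fin d → Ω[B⁄k])
    (hw : Submodule.span B (Set.range w) = ⊤) : (maximalIdeal B).spanFinrank ≤ d := by
  obtain ⟨L, hL⟩ := exists_surjective_kaehler_cotangent k B hres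
  rw [spanFinrank_maximalIdeal_eq_finrank_cotangentSpace]
  have h : Submodule.span (ResidueField B) (Set.range fun i => L (w i)) = ⊤ := by
    rw [eq_top_iff]
    rintro z -
    obtain ⟨y, rfl⟩ := hL z
    have hy : L y ∈ Submodule.span B (Set.range fun i => L (w i)) := by
      rw [Set.range_comp', ← Submodule.map_span, hw]
      exact ⟨y, trivial, rfl⟩
    exact Submodule.span_le_restrictScalars B (ResidueField B) _ hy
  have := finrank_range_le_card (R := ResidueField B) fun i => L (w i)
  rw [Set.finrank, h, finrank_top, Fintype.card_fin] at this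
  exact this

/-- Differentials of generators of the maximal ideal generate the differentials. -/
theorem span_D_eq_top [Module.Finite B Ω[B⁄k]]
    (hres : Function.Surjective (algebraMap k (ResidueField B))) {d : ℕ} (x : Fin d → B)
    (hx : Ideal.span (Set.range x) = maximalIdeal B) :
    Submodule.span B (Set.range fun i => KaehlerDifferential.D k B (x i)) = ⊤ := by
  obtain ⟨c, hc⟩ := exists_const k B hres
  refine top_le_iff.1 (Submodule.le_of_le_smul_of_le_jacobson_bot Module.Finite.fg_top
    (maximalIdeal_le_jacobson ⊥) ?_)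
  rw [← KaehlerDifferential.span_range_derivation, Submodule.span_le]
  rintro _ ⟨b, rfl⟩
  obtain ⟨r, hr⟩ := (Ideal.mem_span_range_iff_exists_fun (v := x)).1 (hx.ge (hc b))
  have hb : KaehlerDifferential.D k B b = ∑ i, KaehlerDifferential.D k B (r i * x i) := by
    rw [← map_sum, hr, map_sub, Derivation.map_algebraMap, sub_zero]
  rw [SetLike.mem_coe, KaehlerDifferential.span_range_derivation, hb]
  refine Submodule.sum_mem _ fun i _ => ?_
  rw [Derivation.leibniz]
  exact Submodule.add_mem_sup (Submodule.smul_mem _ _ (Submodule.subset_span ⟨i, rfl⟩))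
    (Submodule.smul_mem_smul (hx ▸ Ideal.subset_span ⟨i, rfl⟩) trivial)

/-- A Noetherian local ring of residue characteristic zero with derivations dual to generators
of the maximal ideal is regular. -/
theorem isRegularLocalRing_of_dual_derivations : ∀ (n : ℕ) (R : Type u) [CommRing R] [IsLocalRing R]
    [IsNoetherianRing R], (∀ s : ℕ, IsUnit (s + 1 : R)) → ∀ (x : Fin n → R)
      (D : Fin n → Derivation ℤ R R), Ideal.span (Set.range x) = maximalIdeal R →
      (∀ i j, D i (x j) = if i = j then 1 else 0) → IsRegularLocalRing R ∧ ringKrullDim R = n := by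
  intro n
  induction n with
  | zero =>
    intro R _ _ _ _ x _ hx _
    have hbot : maximalIdeal R = ⊥ := by rw [← hx]; simp [Set.range_eq_empty]
    have hf : IsField R := isField_iff_maximalIdeal_eq.2 hbot
    let _ := hf.toField
    exact ⟨inferInstance, by rw [ringKrullDim_eq_zero_of_field]; rfl⟩
  | succ n ih =>
    intro R _ _ _ hunit x D hx hD
    set y := x 0 with hy_def
    have hy : y ∈ maximalIdeal R := hx ▸ Ideal.subset_span ⟨0, rfl⟩
    have hDy : D 0 y = 1 := by simp [hy_def, hD]
    have hann : ∀ a : R, a * y = 0 → ∀ s : ℕ, a ∈ Ideal.span {y} ^ s := by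
      intro a ha s
      induction s with
      | zero => simp
      | succ s ihs =>
        rw [Ideal.span_singleton_pow, Ideal.mem_span_singleton'] at ihs
        obtain ⟨b, hb⟩ := ihs
        have h0 : b * y ^ (s + 1) = 0 := by rw [pow_succ, ← mul_assoc, hb, ha]
        have h1 := congrArg (D 0) h0
        rw [Derivation.leibniz, Derivation.leibniz_pow, hDy, map_zero] at h1
        simp only [smul_eq_mul, mul_one, nsmul_eq_mul, Nat.cast_add, Nat.cast_one, Nat.add_sub_cancel] at h1
        have h2 : (s + 1 : R) * a = y ^ (s + 1) * (- D 0 b) := by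
          rw [← hb]; linear_combination h1
        obtain ⟨u, hu⟩ := hunit s
        rw [Ideal.span_singleton_pow, Ideal.mem_span_singleton', ← (Units.inv_mul_cancel_left u a)]
        exact ⟨↑u⁻¹ * -D 0 b, by rw [hu, h2]; ring⟩
    have hnzd : y ∈ nonZeroDivisors R := by
      refine mem_nonZeroDivisors_iff_right.2 fun a ha => ?_
      have hne : Ideal.span {y} ≠ ⊤ := fun h =>
        (mem_maximalIdeal _).1 hy (Ideal.span_singleton_eq_top.1 h)
      have : a ∈ ⨅ s, Ideal.span {y} ^ s := Ideal.mem_iInf.2 (hann a ha)
      rwa [Ideal.iInf_pow_eq_bot_of_isLocalRing _ hne, Ideal.mem_bot] at this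
    let I := Ideal.span {y}
    have : IsLocalRing (R ⧸ I) := GrothLib.RegLoc.isLocalRing_quotient
      ((Ideal.span_singleton_le_iff_mem _).2 hy)
    have hkill : ∀ (j : Fin n) (a : R), a ∈ I → D j.succ a ∈ I := by
      intro j a ha
      obtain ⟨b, rfl⟩ := Ideal.mem_span_singleton'.1 ha
      rw [Derivation.leibniz, hy_def, hD, if_neg (Fin.succ_ne_zero j), smul_zero, zero_add,
        smul_eq_mul]
      exact Ideal.mul_mem_right _ _ (Ideal.mem_span_singleton_self _)
    let q := Ideal.Quotient.mk I
    let Dl : ∀ j : Fin n, (R ⧸ I) →+ (R ⧸ I) := fun j =>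
      QuotientAddGroup.map I.toAddSubgroup I.toAddSubgroup (D j.succ).toLinearMap.toAddMonoidHom
        (fun a ha => hkill j a ha)
    have hDl : ∀ j a, Dl j (q a) = q (D j.succ a) := fun j a => rfl
    let D' : Fin n → Derivation ℤ (R ⧸ I) (R ⧸ I) := fun j =>
      Derivation.mk' (Dl j).toIntLinearMap fun a b => by
        obtain ⟨a, rfl⟩ := Ideal.Quotient.mk_surjective a
        obtain ⟨b, rfl⟩ := Ideal.Quotient.mk_surjective b
        show Dl j (q a * q b) = q a * Dl j (q b) + q b * Dl j (q a)
        rw [← map_mul, hDl, hDl, hDl, Derivation.leibniz, map_add, smul_eq_mul, smul_eq_mul,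
          map_mul, map_mul]
    have hmax : (maximalIdeal R).map q = maximalIdeal (R ⧸ I) :=
      GrothLib.RegLoc.map_maximalIdeal_quotient _
    obtain ⟨hreg, hdim⟩ := ih (R ⧸ I)
      (fun s => by have := (hunit s).map q; rwa [map_add, map_natCast, map_one] at this)
      (fun j => q (x j.succ)) D' (by
        rw [← hmax, ← hx, Ideal.map_span, ← Set.range_comp]
        refine le_antisymm (Ideal.span_mono ?_) (Ideal.span_le.2 ?_)
        · rintro _ ⟨j, rfl⟩; exact ⟨j.succ, rfl⟩
        · rintro _ ⟨i, rfl⟩
          refine Fin.cases ?_ (fun j => Ideal.subset_span ⟨j, rfl⟩) i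
          show q y ∈ _
          rw [Ideal.Quotient.eq_zero_iff_mem.2 (Ideal.mem_span_singleton_self y)]
          exact zero_mem _)
      (fun i j => by
        show Dl i (q (x j.succ)) = _
        rw [hDl, hD]
        split_ifs with h1 h2 h2
        · exact map_one q
        · exact absurd (Fin.succ_injective _ h1) h2
        · exact absurd (congrArg Fin.succ h2) h1
        · exact map_zero q)
    have hd : ringKrullDim R = (n + 1 : ℕ) := by
      rw [← ringKrullDim_quotient_span_singleton_succ_eq_ringKrullDim_of_mem_nonZeroDivisors hnzd hy,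
        hdim]
      norm_cast
    refine ⟨IsRegularLocalRing.of_spanFinrank_maximalIdeal_le R ?_, hd⟩
    rw [hd]
    exact_mod_cast GrothLib.RegLoc.spanFinrank_le_of_span x hx

end GrothLib.Serre
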